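import Cfsg.Agent.Lib.Zsigmondy
import Cfsg.Agent.H160.PD.Tools
import Cfsg.Agent.H719.RowHasT
import Cfsg.Agent.H129.CycCard

/-!
# S4246, the rows of the exceptional groups: arithmetic, and the centralisers of regular elements (helper446)
-/

set_option autoImplicit false
set_option linter.unusedSectionVars false

namespace Cfsg.Agent.H446.PD

open Subgroup
open Cfsg.Agent.H160.PD

/-- a primitive prime divisor of `p ^ (f h) - 1` -/
structure Pr (p f h l : ℕ) : Prop where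
  prime : l.Prime
  iff : ∀ m, l ∣ p ^ m - 1 ↔ f * h ∣ m
  dvd : f * h ∣ l - 1
  ndvd : ¬ l ∣ p

theorem exists_pr {p f h : ℕ} (hp : p.Prime) (hf : 0 < f) (hh : 7 ≤ h) : ∃ l, Pr p f h l := by
  have hn : 7 ≤ f * h := hh.trans (Nat.le_mul_of_pos_left _ hf)
  obtain ⟨l, hl, h1, h2, h3⟩ := Cfsg.Agent.Lib.Zsigmondy.exists_primitive (a := p) (n := f * h) hp.two_le (by omega)
    (by omega) (by omega)
  exact ⟨l, hl, h1, h2, h3⟩

namespace Pr

variable {p f h l : ℕ} (H : Pr p f h l)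
include H

theorem dvd_q (m : ℕ) (hf : 0 < f) : l ∣ (p ^ f) ^ m - 1 ↔ h ∣ m := by
  rw [← pow_mul, H.iff]
  exact Nat.mul_dvd_mul_iff_left hf

theorem lt : f * h < l := by
  have h1 := H.prime.two_le
  have h2 := Nat.le_of_dvd (by omega) H.dvd
  omega

theorem f_lt (_hf : 0 < f) (hh : 0 < h) : f < l := (Nat.le_mul_of_pos_right _ hh).trans_lt H.lt

theorem h_lt (hf : 0 < f) (_hh : 0 < h) : h < l := (Nat.le_mul_of_pos_left _ hf).trans_lt H.lt

theorem ge (hf : 0 < f) (hh : 7 ≤ h) : 11 ≤ l := by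
  have h1 := H.h_lt hf (by omega)
  have h2 := H.prime
  by_contra hc
  have h3 : 8 ≤ l := by omega
  have h4 : l ≤ 10 := by omega
  clear H h1 hc
  interval_cases l <;> revert h2 <;> norm_num

theorem ndvd_f (hf : 0 < f) (hh : 0 < h) : ¬ l ∣ f := fun h1 => by
  have h2 := Nat.le_of_dvd hf h1
  have h3 := H.f_lt hf hh
  omega

theorem ne_p : l ≠ p := fun h1 => H.ndvd (h1 ▸ dvd_rfl)

theorem od (hp : p.Prime) (hf : 0 < f) : orderOf ((p ^ f : ℕ) : ZMod l) = h := by
  have hr1 : 1 ≤ p ^ f := Nat.one_le_pow _ _ hp.pos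
  have key : ∀ m, orderOf ((p ^ f : ℕ) : ZMod l) ∣ m ↔ h ∣ m := by
    intro m
    rw [← Cfsg.Agent.Lib.Zsigmondy.dvd_pow_sub_one_iff hr1, H.dvd_q m hf]
  exact Nat.dvd_antisymm ((key h).2 dvd_rfl) ((key _).1 dvd_rfl)

end Pr

/-- `v_t (q ^ d - 1) > v_t f` for `q = p ^ f`, if `t` divides `q ^ d - 1` -/
theorem fac_lt {p f d t : ℕ} (hp : p.Prime) (hf : 0 < f) (hd : 0 < d) (ht : t.Prime) (h : t ∣ (p ^ f) ^ d - 1) :
    f.factorization t < ((p ^ f) ^ d - 1).factorization t := by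
  have htF := Fact.mk ht
  have h1 : 1 < (p ^ f) ^ d := Nat.one_lt_pow hd.ne' (Nat.one_lt_pow hf.ne' hp.one_lt)
  rw [Nat.lt_iff_add_one_le, ← ht.pow_dvd_iff_le_factorization (by omega)]
  obtain ⟨f', hf'⟩ : ∃ f', f = t ^ f.factorization t * f' := ⟨_, (Nat.ordProj_mul_ordCompl_eq_self f t).symm⟩
  have key : ∀ (k a : ℕ), t ∣ a ^ (t ^ k) - 1 → 1 ≤ a → t ^ (k + 1) ∣ a ^ (t ^ k) - 1 := by
    intro k a hk ha
    have h3 : ((a : ZMod t)) ^ (t ^ k) = 1 := by
      have h4 := (ZMod.natCast_eq_zero_iff _ _).2 hk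
      rw [Nat.cast_sub (Nat.one_le_pow _ _ ha)] at h4
      push_cast at h4
      exact sub_eq_zero.1 h4
    rw [ZMod.pow_card_pow] at h3
    have h4 : ((t : ℕ) : ℤ) ∣ (a : ℤ) - 1 := by
      rw [← ZMod.intCast_zmod_eq_zero_iff_dvd]
      push_cast
      rw [h3, sub_self]
    have h5 := dvd_sub_pow_of_dvd_sub h4 k
    have h6 : 1 ≤ a ^ (t ^ k) := Nat.one_le_pow _ _ ha
    zify [h6]
    rw [one_pow] at h5
    exact h5
  have h2 : (p ^ f) ^ d = (p ^ (f' * d)) ^ (t ^ f.factorization t) := by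
    rw [← pow_mul, ← pow_mul]
    congr 1
    conv_lhs => rw [hf']
    ring
  rw [h2] at h ⊢
  exact key _ _ h (Nat.one_le_pow _ _ hp.pos)

/-! ### centralisers -/

section Grp

open Cfsg.Agent.H129.CycCard

variable {G : Type*} [Group G] [Finite G]

/-- the centralisers of all elements of order `r` -/
theorem cent_of {r m d : ℕ} (hr : r.Prime) (h : CycCard G r m d) {x : G} (hx : orderOf x = r) :
    IsCyclic ↥(centralizer ({x} : Set G)) ∧ Nat.card ↥(centralizer ({x} : Set G)) ∣ m := by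
  have hrF := Fact.mk hr
  obtain ⟨T, hT, hTm, -, hrT, hTc⟩ := h
  have key : ∃ c : G, c * x * c⁻¹ ∈ T := by
    obtain ⟨⟨y, hyT⟩, hy⟩ := exists_prime_orderOf_dvd_card' r hrT
    have hyo : orderOf y = r := by rw [← hy]; exact (Subgroup.orderOf_mk y hyT).symm
    have hyC := hTc y hyT hyo
    have hyc : IsCyclic ↥(centralizer ({y} : Set G)) :=
      isCyclic_of_injective (Subgroup.inclusion hyC) (Subgroup.inclusion_injective hyC)
    obtain ⟨P, hP⟩ := Cfsg.Agent.H719.cyclic_sylow_of_cent hyo hyc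
    have conj : ∀ z : G, orderOf z = r → ∃ g : G, g * z * g⁻¹ ∈ (P : Subgroup G) := by
      intro z hz
      obtain ⟨Q, hQ⟩ := (isPGroup_zpowers hz).exists_le_sylow
      obtain ⟨g, rfl⟩ := MulAction.exists_smul_eq G P Q
      refine ⟨g⁻¹, ?_⟩
      have h1 : z ∈ ((g • P : Sylow r G) : Subgroup G) := hQ (mem_zpowers z)
      rw [Sylow.coe_subgroup_smul, Subgroup.mem_pointwise_smul_iff_inv_smul_mem] at h1
      simpa using h1
    have ho : ∀ (g z : G), orderOf (g * z * g⁻¹) = orderOf z := fun g z =>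
      MulEquiv.orderOf_eq (MulAut.conj g) z
    obtain ⟨g, hg⟩ := conj x hx
    obtain ⟨k, hk⟩ := conj y hyo
    have h1 : (⟨g * x * g⁻¹, hg⟩ : (P : Subgroup G)) ∈ zpowers (⟨k * y * k⁻¹, hk⟩ : (P : Subgroup G)) := by
      apply mem_zpowers_of_cyclic
      rw [Subgroup.orderOf_mk, Subgroup.orderOf_mk, ho, ho, hx, hyo]
    obtain ⟨i, hi⟩ := h1
    have h2 : (k * y * k⁻¹) ^ i = g * x * g⁻¹ := congrArg Subtype.val hi
    refine ⟨k⁻¹ * g, ?_⟩
    have h3 : (k⁻¹ * g) * x * (k⁻¹ * g)⁻¹ = y ^ i := by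
      have h4 : (k⁻¹ * g) * x * (k⁻¹ * g)⁻¹ = k⁻¹ * (g * x * g⁻¹) * k := by group
      rw [h4, ← h2, conj_zpow]; group
    rw [h3]
    exact zpow_mem hyT i
  obtain ⟨c, hc⟩ := key
  have hco : orderOf (c * x * c⁻¹) = r := by rw [← hx]; exact MulEquiv.orderOf_eq (MulAut.conj c) x
  have hC := hTc _ hc hco
  have hmem : ∀ y : ↥(centralizer ({x} : Set G)),
      ((MulAut.conj c).toMonoidHom.comp (centralizer ({x} : Set G)).subtype) y ∈ T := by
    rintro ⟨y, hy⟩
    apply hC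
    rw [mem_centralizer_singleton_iff] at hy ⊢
    show c * y * c⁻¹ * (c * x * c⁻¹) = c * x * c⁻¹ * (c * y * c⁻¹)
    have h1 : c * y * c⁻¹ * (c * x * c⁻¹) = c * (y * x) * c⁻¹ := by group
    have h2 : c * x * c⁻¹ * (c * y * c⁻¹) = c * (x * y) * c⁻¹ := by group
    rw [h1, h2, hy]
  have hinj : Function.Injective
      (((MulAut.conj c).toMonoidHom.comp (centralizer ({x} : Set G)).subtype).codRestrict T hmem) := by
    intro a b hab
    have h1 := congrArg Subtype.val hab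
    exact Subtype.ext ((MulAut.conj c).injective h1)
  exact ⟨isCyclic_of_injective _ hinj, (Subgroup.card_dvd_of_injective _ hinj).trans hTm⟩

/-- the normaliser, if the fusion is controlled by a group of order `w` -/
theorem norm_of {r w : ℕ} (hr : r.Prime)
    (hw : ∀ (x g : G) (k : ℕ), orderOf x = r → g * x * g⁻¹ = x ^ k → k ^ w ≡ 1 [MOD r]) {x : G} (hx : orderOf x = r) :
    Nat.card ↥(normalizer ((zpowers x : Subgroup G) : Set G)) ∣ Nat.card ↥(centralizer ({x} : Set G)) * w := by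
  refine card_normalizer_dvd hr hx fun y hy => ?_
  have h1 : y * x * y⁻¹ ∈ zpowers x := (mem_normalizer_iff.1 hy x).1 (mem_zpowers x)
  rw [← mem_powers_iff_mem_zpowers] at h1
  obtain ⟨k, hk⟩ := h1
  have hk' : y * x * y⁻¹ = x ^ k := hk.symm
  have h2 := hw x y k hx hk'
  have h3 : ∀ j : ℕ, y ^ j * x * (y ^ j)⁻¹ = x ^ (k ^ j) := by
    intro j
    induction j with
    | zero => simp
    | succ j ih =>
      have h4 : y ^ (j + 1) * x * (y ^ (j + 1))⁻¹ = y ^ j * (y * x * y⁻¹) * (y ^ j)⁻¹ := by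
        rw [pow_succ]; group
      rw [h4, hk', ← conj_pow, ih, ← pow_mul, ← pow_succ]
  have h5 : x ^ (k ^ w) = x ^ 1 := (pow_eq_pow_iff_modEq).2 (by rw [hx]; exact h2)
  have h6 := h3 w
  rw [h5, pow_one, mul_inv_eq_iff_eq_mul] at h6
  rw [mem_centralizer_singleton_iff]
  exact h6

/-- **The local data at a prime `l`** with cyclic centralisers of order dividing `N`. -/
structure At (G : Type*) [Group G] (l N w : ℕ) : Prop where
  prime : l.Prime
  cyc : ∀ x : G, orderOf x = l → IsCyclic ↥(centralizer ({x} : Set G))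
  card : ∀ x : G, orderOf x = l → Nat.card ↥(centralizer ({x} : Set G)) ∣ N
  norm : ∀ x : G, orderOf x = l →
    Nat.card ↥(normalizer ((zpowers x : Subgroup G) : Set G)) ∣ Nat.card ↥(centralizer ({x} : Set G)) * w
  ndvd : ¬ l ∣ w

theorem At.of_cycCard {l m d N w : ℕ} (hl : l.Prime) (h : CycCard G l m d) (hm : m ∣ N)
    (hw : ∀ (x g : G) (k : ℕ), orderOf x = l → g * x * g⁻¹ = x ^ k → k ^ w ≡ 1 [MOD l]) (hlw : ¬ l ∣ w) : At G l N w :=
  ⟨hl, fun _ hx => (cent_of hl h hx).1, fun _ hx => (cent_of hl h hx).2.trans hm, fun _ hx => norm_of hl hw hx, hlw⟩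

theorem At.noOdd {S : Type*} [Group S] [Finite S] {r s N M w : ℕ} (A : At S r N w) (B : At S s M w) (h1 : ¬ s ∣ N)
    (h2 : ¬ r ∣ M) (hrs : r ≠ s) : NoOdd S r s := by
  refine noOdd_of_uniq A.prime B.prime hrs (uniq_of_cyclic A.cyc) (uniq_of_cyclic B.cyc) (fun x hx hd => ?_)
    (fun x hx hd => ?_)
  · rcases B.prime.dvd_mul.1 (hd.trans (A.norm x hx)) with h | h
    · exact h1 (h.trans (A.card x hx))
    · exact B.ndvd h
  · rcases A.prime.dvd_mul.1 (hd.trans (B.norm x hx)) with h | h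
    · exact h2 (h.trans (B.card x hx))
    · exact A.ndvd h

/-- an inner automorphism fixing an element -/
theorem inner_dvd {S : Type*} [Group S] [Finite S] (hZ : center S = ⊥) {l N w : ℕ} (A : At S l N w) {g x : S}
    (hx : orderOf x = l) (h : MulAut.conj g x = x) : orderOf (MulAut.conj g : MulAut S) ∣ N := by
  rw [orderOf_injective (MulAut.conj : S →* MulAut S) (conj_injective hZ) g]
  have hg : g ∈ centralizer ({x} : Set S) := by
    rw [mem_centralizer_singleton_iff]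
    rw [MulAut.conj_apply, mul_inv_eq_iff_eq_mul] at h
    exact h
  have h1 : orderOf g ∣ Nat.card ↥(centralizer ({x} : Set S)) := by
    rw [← Subgroup.orderOf_mk g hg]
    exact orderOf_dvd_natCard _
  exact h1.trans (A.card x hx)

theorem At.inc {S : Type*} [Group S] [Finite S] (hZ : center S = ⊥) {r s N M w : ℕ} (A : At S r N w)
    (B : At S s M w)
    (hd : ∀ b : MulAut S, (orderOf b).Prime → orderOf b ≠ 2 →
      (∃ g, b = MulAut.conj g) ∨ ∀ y : S, orderOf y = r → b y ≠ y)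
    (hco : ∀ t, t.Prime → t ≠ 2 → t ∣ N → t ∣ M → False) : Inc S r s := by
  intro b hb hb2 x hx hbx y hy hby
  rcases hd b hb hb2 with ⟨g, rfl⟩ | h
  · exact hco _ hb hb2 (inner_dvd hZ A hx hbx) (inner_dvd hZ B hy hby)
  · exact h x hx hbx

/-- a prime dividing the order of the centraliser of `y`: then the order of `y` divides `N` -/
theorem At.dvd_of {S : Type*} [Group S] [Finite S] {l N w : ℕ} (A : At S l N w) {y : S}
    (h : l ∣ Nat.card ↥(centralizer ({y} : Set S))) : orderOf y ∣ N := by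
  have hlF := Fact.mk A.prime
  obtain ⟨⟨x, hxy⟩, hx⟩ := exists_prime_orderOf_dvd_card' l h
  have hxo : orderOf x = l := by rw [← hx]; exact (Subgroup.orderOf_mk x hxy).symm
  rw [mem_centralizer_singleton_iff] at hxy
  have hy : y ∈ centralizer ({x} : Set S) := by
    rw [mem_centralizer_singleton_iff]
    exact hxy.symm
  have h1 : orderOf y ∣ Nat.card ↥(centralizer ({x} : Set S)) := by
    rw [← Subgroup.orderOf_mk y hy]
    exact orderOf_dvd_natCard _
  exact h1.trans (A.card x hxo)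

end Grp

end Cfsg.Agent.H446.PD
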