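import Cfsg.Prelude.Def_LieChev
import Cfsg.Agent.H446.PD.Arith
import Cfsg.Agent.H872.AutWeyl
import Cfsg.Agent.H719.RowCases
import Cfsg.Agent.H719.AutInv
import Cfsg.Agent.H70.OutE
import Cfsg.Agent.H378.CycTab
import Cfsg.Agent.S1064
import Cfsg.Agent.S1054

/-!
# S4246, the row of `E₇(q)` (helper446)

`row_e7` : `Row K` for `K ≃ E₇(q)`, with the criterion `row_four`, the four primes being primitive prime divisors of
`q¹⁸ - 1`, `q¹⁴ - 1` | `q⁹ - 1`, `q⁷ - 1`.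
-/

set_option autoImplicit false
set_option linter.unusedSectionVars false

namespace Cfsg.Agent.H446.PD.E7

open Subgroup Cfsg Cfsg.Lie Cfsg.Lie.ChevalleyDatum
open Cfsg.Agent.ChevalleyStructure Cfsg.Agent.ChevalleyStructure.Elts Cfsg.Agent.ChevalleyStructure.CoxeterGeom
  Cfsg.Agent.ChevalleyStructure.CoxeterGeomTypes
open Cfsg.Agent.Nodes.RGDChev
open Cfsg.Agent.H129.TorusChar Cfsg.Agent.H129.CycCard
open Cfsg.Agent.H568 Cfsg.Agent.H568.FldExc Cfsg.Agent.H719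
open Cfsg.Agent.H160.PD (Good NoOdd Inc out row_four v v_pos v_eq_zero center_eq_bot)
open Cfsg.Agent.H378.CycTab Cfsg.Agent.H872.AutWeyl

universe u

/-! ### arithmetic -/

section Arith

variable {q t : ℕ}

theorem cast_add {n : ℕ} (h : t ∣ q ^ n + 1) : (q : ZMod t) ^ n + 1 = 0 := by
  have h1 := (ZMod.natCast_eq_zero_iff _ _).2 h
  push_cast at h1
  exact h1

theorem cast_sub {n : ℕ} (hq : 1 ≤ q) (h : t ∣ q ^ n - 1) : (q : ZMod t) ^ n - 1 = 0 := by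
  have h1 := (ZMod.natCast_eq_zero_iff _ _).2 h
  rw [Nat.cast_sub (Nat.one_le_pow _ _ hq)] at h1
  push_cast at h1
  exact h1

theorem two_ne (ht : t.Prime) (ht2 : t ≠ 2) : (2 : ZMod t) ≠ 0 := by
  intro h
  have h1 : ((2 : ℕ) : ZMod t) = 0 := by exact_mod_cast h
  rw [ZMod.natCast_eq_zero_iff] at h1
  exact ht2 ((Nat.prime_dvd_prime_iff_eq ht Nat.prime_two).1 h1)

theorem co99 (hq : 1 ≤ q) (ht : t.Prime) (ht2 : t ≠ 2) (h1 : t ∣ q ^ 9 + 1) (h2 : t ∣ q ^ 9 - 1) : False := by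
  apply two_ne ht ht2
  linear_combination cast_add h1 - cast_sub hq h2

theorem co77 (hq : 1 ≤ q) (ht : t.Prime) (ht2 : t ≠ 2) (h1 : t ∣ q ^ 7 + 1) (h2 : t ∣ q ^ 7 - 1) : False := by
  apply two_ne ht ht2
  linear_combination cast_add h1 - cast_sub hq h2

theorem co97 (hq : 1 ≤ q) (ht : t.Prime) (ht2 : t ≠ 2) (h1 : t ∣ q ^ 9 + 1) (h2 : t ∣ q ^ 7 - 1) : False := by
  apply two_ne ht ht2
  have e1 := cast_add h1
  have e2 := cast_sub hq h2
  generalize (q : ZMod t) = x at e1 e2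
  linear_combination (1 - (x - 1) * (x ^ 5 - x ^ 3 + x)) * e1 +
    (-x ^ 2 + (x - 1) + (x - 1) * x ^ 2 * (x ^ 5 - x ^ 3 + x)) * e2

theorem co79 (hq : 1 ≤ q) (ht : t.Prime) (ht2 : t ≠ 2) (h1 : t ∣ q ^ 7 + 1) (h2 : t ∣ q ^ 9 - 1) : False := by
  apply two_ne ht ht2
  have e1 := cast_add h1
  have e2 := cast_sub hq h2
  generalize (q : ZMod t) = x at e1 e2
  linear_combination (x ^ 2 * (1 - (x + 1) * (x ^ 5 - x ^ 3 + x)) + (x + 1)) * e1 -
    (1 - (x + 1) * (x ^ 5 - x ^ 3 + x)) * e2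

theorem of_cast (hq : 1 ≤ q) {n : ℕ} (h : (q : ZMod t) ^ n = 1) : t ∣ q ^ n - 1 := by
  rw [← ZMod.natCast_eq_zero_iff, Nat.cast_sub (Nat.one_le_pow _ _ hq)]
  push_cast
  rw [h, sub_self]

theorem two_of_add (hq : 1 ≤ q) (h1 : t ∣ q ^ 9 + 1) (h2 : t ∣ q ^ 7 + 1) : t ∣ q ^ 2 - 1 := by
  apply of_cast hq
  linear_combination (q : ZMod t) ^ 2 * cast_add h2 - cast_add h1

theorem two_of_sub (hq : 1 ≤ q) (h1 : t ∣ q ^ 9 - 1) (h2 : t ∣ q ^ 7 - 1) : t ∣ q ^ 2 - 1 := by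
  apply of_cast hq
  linear_combination cast_sub hq h1 - (q : ZMod t) ^ 2 * cast_sub hq h2

theorem e18 (hq : 1 ≤ q) : q ^ 18 - 1 = (q ^ 9 + 1) * (q ^ 9 - 1) := by
  have h1 : 1 ≤ q ^ 9 := Nat.one_le_pow _ _ hq
  have h2 : 1 ≤ q ^ 18 := Nat.one_le_pow _ _ hq
  zify [h1, h2]; ring

theorem e14 (hq : 1 ≤ q) : q ^ 14 - 1 = (q ^ 7 + 1) * (q ^ 7 - 1) := by
  have h1 : 1 ≤ q ^ 7 := Nat.one_le_pow _ _ hq
  have h2 : 1 ≤ q ^ 14 := Nat.one_le_pow _ _ hq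
  zify [h1, h2]; ring

theorem dvd14 (hq : 1 ≤ q) (h : t ∣ q ^ 2 - 1) : t ∣ q ^ 14 - 1 := by
  rw [Cfsg.Agent.Lib.Zsigmondy.dvd_pow_sub_one_iff hq] at h ⊢
  exact h.trans (by norm_num)

end Arith

/-! ### the local data -/

section Loc

variable {F : Type u} [Field F] [Fintype F] {p f w l : ℕ}

theorem at_of {m N h : ℕ} (hf : 0 < f) (hF : Fintype.card F = p ^ f)
    (hw1 : ∀ n : ℕ, n.Prime → 11 ≤ n → ¬ n ∣ w)
    (hw2 : ∀ (F : Type u) (_ : Field F) (_ : Finite F) (x g : ↥(chevE7.group F)) (ℓ k : ℕ), ℓ.Prime → ¬ ℓ ∣ Nat.card F →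
      orderOf x = ℓ → g * x * g⁻¹ = x ^ k → k ^ w ≡ 1 [MOD ℓ]) (hh : 7 ≤ h) (H : Pr p f h l)
    (hC : CycCard ↥(chevE7.group F) l m (Nat.gcd 2 (p ^ f - 1))) (hm : m ∣ N) : At ↥(chevE7.group F) l N w := by
  have : Finite ↥(chevE7.group F) := finite_group _ F
  refine At.of_cycCard H.prime hC hm (fun x g k hx hk => hw2 F _ inferInstance x g l k H.prime ?_ hx hk)
    (hw1 l H.prime (H.ge hf hh))
  rw [Nat.card_eq_fintype_card, hF]
  intro h1
  exact H.ndvd (H.prime.dvd_of_dvd_pow h1)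

variable (hp : p.Prime) (hf : 0 < f) (hF : Fintype.card F = p ^ f)
    (hw1 : ∀ n : ℕ, n.Prime → 11 ≤ n → ¬ n ∣ w)
    (hw2 : ∀ (F : Type u) (_ : Field F) (_ : Finite F) (x g : ↥(chevE7.group F)) (ℓ k : ℕ), ℓ.Prime → ¬ ℓ ∣ Nat.card F →
      orderOf x = ℓ → g * x * g⁻¹ = x ^ k → k ^ w ≡ 1 [MOD ℓ])
include hp hf hF hw1 hw2

theorem at18 (H : Pr p f 18 l) : At ↥(chevE7.group F) l ((p ^ f) ^ 9 + 1) w := by
  obtain ⟨q, hq⟩ : ∃ q, p ^ f = q := ⟨_, rfl⟩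
  have hq1 : 1 ≤ q := hq ▸ Nat.one_le_pow _ _ hp.pos
  have h2 : q ^ 3 ≤ q ^ 6 + 1 := (Nat.pow_le_pow_right hq1 (by norm_num)).trans (Nat.le_succ _)
  have h1 := dvd18 H.prime (H.od hp hf)
  rw [pv18, hq] at h1
  have hm : (((q ^ 6 + 1 - q ^ 3) * (q + 1) : ℕ) : ℤ) = (1 - (q : ℤ) ^ 3 + (q : ℤ) ^ 6) * ((q : ℤ) + 1) := by
    rw [Nat.cast_mul, Nat.cast_sub h2]
    push_cast
    ring
  have hne : l ≠ 3 := by have := H.ge hf (by norm_num); omega
  have hC := card_E7_18 (hF.trans hq) hm H.prime (by convert h1 using 1; ring) hne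
  have hd : (q ^ 6 + 1 - q ^ 3) * (q + 1) ∣ q ^ 9 + 1 := by
    refine Int.natCast_dvd_natCast.1 ⟨(q : ℤ) ^ 2 - q + 1, ?_⟩
    rw [hm]; push_cast; ring
  subst hq
  exact at_of hf hF hw1 hw2 (by norm_num) H hC hd

theorem at14 (H : Pr p f 14 l) : At ↥(chevE7.group F) l ((p ^ f) ^ 7 + 1) w := by
  obtain ⟨q, hq⟩ : ∃ q, p ^ f = q := ⟨_, rfl⟩
  have h1 := H378.CycTab.dvd14 H.prime (H.od hp hf)
  rw [pv14, hq] at h1
  have hm : ((q ^ 7 + 1 : ℕ) : ℤ) = (q : ℤ) ^ 7 + 1 := by push_cast; ring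
  have hne : l ≠ 7 := by have := H.ge hf (by norm_num); omega
  have hC := card_E7_14 (hF.trans hq) hm H.prime (by convert h1 using 1; ring) hne
  subst hq
  exact at_of hf hF hw1 hw2 (by norm_num) H hC dvd_rfl

theorem at9 (H : Pr p f 9 l) : At ↥(chevE7.group F) l ((p ^ f) ^ 9 - 1) w := by
  obtain ⟨q, hq⟩ : ∃ q, p ^ f = q := ⟨_, rfl⟩
  have hq1 : 1 ≤ q := hq ▸ Nat.one_le_pow _ _ hp.pos
  have h2 : 1 ≤ q ^ 9 := Nat.one_le_pow _ _ hq1
  have h1 := dvd9 H.prime (H.od hp hf)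
  rw [pv9, hq] at h1
  have hm : (((1 + q ^ 3 + q ^ 6) * (q - 1) : ℕ) : ℤ) = (1 + (q : ℤ) ^ 3 + (q : ℤ) ^ 6) * ((q : ℤ) - 1) := by
    rw [Nat.cast_mul, Nat.cast_sub hq1]
    push_cast
    ring
  have hne : l ≠ 3 := by have := H.ge hf (by norm_num); omega
  have hC := card_E7_9 (hF.trans hq) hm H.prime (by convert h1 using 1; ring) hne
  have hd : (1 + q ^ 3 + q ^ 6) * (q - 1) ∣ q ^ 9 - 1 := by
    refine Int.natCast_dvd_natCast.1 ⟨(q : ℤ) ^ 2 + q + 1, ?_⟩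
    rw [hm, Nat.cast_sub h2]; push_cast; ring
  subst hq
  exact at_of hf hF hw1 hw2 (by norm_num) H hC hd

theorem at7 (H : Pr p f 7 l) : At ↥(chevE7.group F) l ((p ^ f) ^ 7 - 1) w := by
  obtain ⟨q, hq⟩ : ∃ q, p ^ f = q := ⟨_, rfl⟩
  have hq1 : 1 ≤ q := hq ▸ Nat.one_le_pow _ _ hp.pos
  have h2 : 1 ≤ q ^ 7 := Nat.one_le_pow _ _ hq1
  have h1 := dvd7 H.prime (H.od hp hf)
  rw [pv7, hq] at h1
  have hm : ((q ^ 7 - 1 : ℕ) : ℤ) = (q : ℤ) ^ 7 - 1 := by rw [Nat.cast_sub h2]; push_cast; ring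
  have hne : l ≠ 7 := by have := H.ge hf (by norm_num); omega
  have hC := card_E7_7 (hF.trans hq) hm H.prime (by convert h1 using 1; ring) hne
  subst hq
  exact at_of hf hF hw1 hw2 (by norm_num) H hC dvd_rfl

end Loc

/-! ### the orders -/

section Ord

variable {F : Type u} [Field F] [Fintype F] {p f t : ℕ}

theorem fac_S (hp : p.Prime) (hf : 0 < f) (hF : Fintype.card F = p ^ f) (ht : t.Prime) (ht2 : t ≠ 2) :
    v t ↥(chevE7.group F) = 63 * (p ^ f).factorization t + ((p ^ f) ^ 2 - 1).factorization t +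
      ((p ^ f) ^ 6 - 1).factorization t + ((p ^ f) ^ 8 - 1).factorization t + ((p ^ f) ^ 10 - 1).factorization t +
      ((p ^ f) ^ 12 - 1).factorization t + ((p ^ f) ^ 14 - 1).factorization t + ((p ^ f) ^ 18 - 1).factorization t := by
  have : Finite ↥(chevE7.group F) := finite_group _ F
  have h1 := Cfsg.Agent.S1064.result hF
  have hq2 : 1 < p ^ f := Nat.one_lt_pow hf.ne' hp.one_lt
  generalize p ^ f = q at *
  have hne : ∀ d, d ≠ 0 → q ^ d - 1 ≠ 0 := fun d hd => by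
    have := Nat.one_lt_pow hd hq2
    omega
  have hg : ¬ t ∣ Nat.gcd 2 (q - 1) := fun h => ht2
    ((Nat.prime_dvd_prime_iff_eq ht Nat.prime_two).1 (h.trans (Nat.gcd_dvd_left _ _)))
  have hg0 : Nat.gcd 2 (q - 1) ≠ 0 := Nat.gcd_ne_zero_left (by norm_num)
  have h2 := congrArg (fun n => n.factorization t) h1
  have hq0 : q ^ 63 ≠ 0 := pow_ne_zero _ (by omega)
  have a2 := hne 2 (by norm_num)
  have a6 := hne 6 (by norm_num)
  have a8 := hne 8 (by norm_num)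
  have a10 := hne 10 (by norm_num)
  have a12 := hne 12 (by norm_num)
  have a14 := hne 14 (by norm_num)
  have a18 := hne 18 (by norm_num)
  have b1 := mul_ne_zero hq0 a2
  have b2 := mul_ne_zero b1 a6
  have b3 := mul_ne_zero b2 a8
  have b4 := mul_ne_zero b3 a10
  have b5 := mul_ne_zero b4 a12
  have b6 := mul_ne_zero b5 a14
  beta_reduce at h2
  rw [Nat.factorization_mul hg0 Nat.card_pos.ne', Nat.factorization_mul b6 a18, Nat.factorization_mul b5 a14,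
    Nat.factorization_mul b4 a12, Nat.factorization_mul b3 a10, Nat.factorization_mul b2 a8,
    Nat.factorization_mul b1 a6, Nat.factorization_mul hq0 a2, Nat.factorization_pow] at h2
  simp only [Finsupp.add_apply, Finsupp.smul_apply, smul_eq_mul, Nat.factorization_eq_zero_of_not_dvd hg, zero_add] at h2
  exact h2

theorem fac_out (hp : p.Prime) (hf : 0 < f) (hF : Fintype.card F = p ^ f) (ht : t.Prime) (ht2 : t ≠ 2) :
    (out ↥(chevE7.group F)).factorization t = f.factorization t := by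
  have : Fact p.Prime := ⟨hp⟩
  have h1 : out ↥(chevE7.group F) = Nat.gcd 2 (p ^ f - 1) * f := H70.OutE.card_out_E7 hF
  have hg : ¬ t ∣ Nat.gcd 2 (p ^ f - 1) := fun h => ht2
    ((Nat.prime_dvd_prime_iff_eq ht Nat.prime_two).1 (h.trans (Nat.gcd_dvd_left _ _)))
  have hg0 : Nat.gcd 2 (p ^ f - 1) ≠ 0 := Nat.gcd_ne_zero_left (by norm_num)
  rw [h1, Nat.factorization_mul hg0 hf.ne', Finsupp.add_apply, Nat.factorization_eq_zero_of_not_dvd hg, zero_add]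

theorem out_lt (hp : p.Prime) (hf : 0 < f) (hF : Fintype.card F = p ^ f) (ht : t.Prime) (ht2 : t ≠ 2)
    (htS : t ∣ Nat.card ↥(chevE7.group F)) : (out ↥(chevE7.group F)).factorization t < v t ↥(chevE7.group F) := by
  have : Finite ↥(chevE7.group F) := finite_group _ F
  rw [fac_out hp hf hF ht ht2]
  have h1 := (v_pos (X := ↥(chevE7.group F)) ht).2 htS
  have h2 := fac_S hp hf hF ht ht2
  by_cases htp : t = p
  · subst htp
    have h3 : (t ^ f).factorization t = f := by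
      rw [Nat.factorization_pow, Finsupp.smul_apply, ht.factorization_self, smul_eq_mul, mul_one]
    have h4 := Nat.factorization_lt (n := f) t hf.ne'
    omega
  · have h0 : (p ^ f).factorization t = 0 := Nat.factorization_eq_zero_of_not_dvd fun h =>
      htp ((Nat.prime_dvd_prime_iff_eq ht hp).1 (ht.dvd_of_dvd_pow h))
    have key : ∀ d, 0 < d → ((p ^ f) ^ d - 1).factorization t ≠ 0 →
        f.factorization t < ((p ^ f) ^ d - 1).factorization t := fun d hd h3 =>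
      fac_lt hp hf hd ht (Nat.dvd_of_factorization_pos h3)
    have k2 := key 2 (by norm_num)
    have k6 := key 6 (by norm_num)
    have k8 := key 8 (by norm_num)
    have k10 := key 10 (by norm_num)
    have k12 := key 12 (by norm_num)
    have k14 := key 14 (by norm_num)
    have k18 := key 18 (by norm_num)
    omega

theorem dvd_S (hp : p.Prime) (hf : 0 < f) (hF : Fintype.card F = p ^ f) (ht : t.Prime) (ht2 : t ≠ 2)
    (h : t ∣ (p ^ f) ^ 18 - 1 ∨ t ∣ (p ^ f) ^ 14 - 1) : t ∣ Nat.card ↥(chevE7.group F) := by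
  have : Finite ↥(chevE7.group F) := finite_group _ F
  rw [← v_pos ht, fac_S hp hf hF ht ht2]
  have hq2 : 1 < p ^ f := Nat.one_lt_pow hf.ne' hp.one_lt
  have hne : ∀ d, d ≠ 0 → (p ^ f) ^ d - 1 ≠ 0 := fun d hd => by
    have := Nat.one_lt_pow hd hq2
    omega
  rcases h with h | h
  · have := (ht.dvd_iff_one_le_factorization (hne 18 (by norm_num))).1 h
    omega
  · have := (ht.dvd_iff_one_le_factorization (hne 14 (by norm_num))).1 h
    omega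

end Ord

/-! ### the row -/

theorem row_group {F : Type u} [Field F] [Fintype F] [IsSimpleGroup ↥(chevE7.group F)] :
    Cfsg.Agent.H160.PD.Row ↥(chevE7.group F) := by
  obtain ⟨p, hpc⟩ := CharP.exists F
  have hpF : Fact p.Prime := ⟨CharP.char_is_prime F p⟩
  obtain ⟨⟨f, hf⟩, -, hF⟩ := FiniteField.card F p
  rw [PNat.mk_coe] at hF
  have hp := hpF.1
  have hfin : Finite ↥(chevE7.group F) := finite_group _ F
  have hna : ¬ IsMulCommutative ↥(chevE7.group F) := (Cfsg.Agent.S1054.result chevE7 (by simp)).2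
  have hZ : center ↥(chevE7.group F) = ⊥ := Cfsg.Agent.H160.PD.center_eq_bot hna
  obtain ⟨w, hw1, hw2⟩ := small_E7.{u}
  obtain ⟨r₀, H₀⟩ := exists_pr (h := 18) hp hf (by norm_num)
  obtain ⟨r₁, H₁⟩ := exists_pr (h := 14) hp hf (by norm_num)
  obtain ⟨s₀, H₂⟩ := exists_pr (h := 9) hp hf (by norm_num)
  obtain ⟨s₁, H₃⟩ := exists_pr (h := 7) hp hf (by norm_num)
  have A₀ := at18 hp hf hF hw1 hw2 H₀
  have A₁ := at14 hp hf hF hw1 hw2 H₁
  have A₂ := at9 hp hf hF hw1 hw2 H₂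
  have A₃ := at7 hp hf hF hw1 hw2 H₃
  have hq1 : 1 ≤ p ^ f := Nat.one_le_pow _ _ hp.pos
  have g₀ := H₀.ge hf (by norm_num)
  have g₁ := H₁.ge hf (by norm_num)
  have g₂ := H₂.ge hf (by norm_num)
  have g₃ := H₃.ge hf (by norm_num)
  have n₀ : r₀ ≠ 2 := by omega
  have n₁ : r₁ ≠ 2 := by omega
  have n₂ : s₀ ≠ 2 := by omega
  have n₃ : s₁ ≠ 2 := by omega
  -- the primes divide the order
  have good : ∀ {l : ℕ}, l.Prime → l ≠ 2 → (l ∣ (p ^ f) ^ 18 - 1 ∨ l ∣ (p ^ f) ^ 14 - 1) →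
      Good ↥(chevE7.group F) l := fun hl hl2 h => ⟨hl, hl2, out_lt hp hf hF hl hl2 (dvd_S hp hf hF hl hl2 h)⟩
  have G₀ : Good ↥(chevE7.group F) r₀ := good H₀.prime n₀ (Or.inl ((H₀.dvd_q 18 hf).2 (by norm_num)))
  have G₁ : Good ↥(chevE7.group F) r₁ := good H₁.prime n₁ (Or.inr ((H₁.dvd_q 14 hf).2 (by norm_num)))
  have G₂ : Good ↥(chevE7.group F) s₀ := good H₂.prime n₂ (Or.inl ((H₂.dvd_q 18 hf).2 (by norm_num)))
  have G₃ : Good ↥(chevE7.group F) s₁ := good H₃.prime n₃ (Or.inr ((H₃.dvd_q 14 hf).2 (by norm_num)))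
  -- the divisibilities
  have d9 : ∀ t, t ∣ (p ^ f) ^ 9 + 1 → t ∣ (p ^ f) ^ 18 - 1 := fun t h => by
    rw [e18 hq1]; exact h.mul_right _
  have d7 : ∀ t, t ∣ (p ^ f) ^ 7 + 1 → t ∣ (p ^ f) ^ 14 - 1 := fun t h => by
    rw [e14 hq1]; exact h.mul_right _
  have e01 : ¬ r₁ ∣ (p ^ f) ^ 9 + 1 := fun h => by
    have := (H₁.dvd_q 18 hf).1 (d9 _ h); norm_num at this
  have e02 : ¬ s₀ ∣ (p ^ f) ^ 9 + 1 := fun h =>
    co99 hq1 H₂.prime n₂ h ((H₂.dvd_q 9 hf).2 (by norm_num))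
  have e03 : ¬ s₁ ∣ (p ^ f) ^ 9 + 1 := fun h => by
    have := (H₃.dvd_q 18 hf).1 (d9 _ h); norm_num at this
  have e10 : ¬ r₀ ∣ (p ^ f) ^ 7 + 1 := fun h => by
    have := (H₀.dvd_q 14 hf).1 (d7 _ h); norm_num at this
  have e12 : ¬ s₀ ∣ (p ^ f) ^ 7 + 1 := fun h => by
    have := (H₂.dvd_q 14 hf).1 (d7 _ h); norm_num at this
  have e13 : ¬ s₁ ∣ (p ^ f) ^ 7 + 1 := fun h =>
    co77 hq1 H₃.prime n₃ h ((H₃.dvd_q 7 hf).2 (by norm_num))
  have e20 : ¬ r₀ ∣ (p ^ f) ^ 9 - 1 := fun h => by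
    have := (H₀.dvd_q 9 hf).1 h; norm_num at this
  have e21 : ¬ r₁ ∣ (p ^ f) ^ 9 - 1 := fun h => by
    have := (H₁.dvd_q 9 hf).1 h; norm_num at this
  have e23 : ¬ s₁ ∣ (p ^ f) ^ 9 - 1 := fun h => by
    have := (H₃.dvd_q 9 hf).1 h; norm_num at this
  have e30 : ¬ r₀ ∣ (p ^ f) ^ 7 - 1 := fun h => by
    have := (H₀.dvd_q 7 hf).1 h; norm_num at this
  have e31 : ¬ r₁ ∣ (p ^ f) ^ 7 - 1 := fun h => by
    have := (H₁.dvd_q 7 hf).1 h; norm_num at this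
  have e32 : ¬ s₀ ∣ (p ^ f) ^ 7 - 1 := fun h => by
    have := (H₂.dvd_q 7 hf).1 h; norm_num at this
  -- the primes are distinct
  have neq : ∀ {l l' h h' : ℕ}, Pr p f h l → Pr p f h' l' → h ≠ h' → l ≠ l' := by
    rintro l l' h h' H H' hne rfl
    exact hne ((H.od hp hf).symm.trans (H'.od hp hf))
  -- the dichotomy
  have hp' : IsType chevE7 7 CoxeterMatrix.E₇ := by simp [IsType, typeList]
  have dic : ∀ {l h : ℕ}, Pr p f h l → 7 ≤ h → ∀ b : MulAut ↥(chevE7.group F), (orderOf b).Prime → orderOf b ≠ 2 →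
      (∃ g, b = MulAut.conj g) ∨ ∀ y : ↥(chevE7.group F), orderOf y = l → b y ≠ y := by
    intro l h H hh b hb hb2
    have hl11 := H.ge hf hh
    rcases dich hp' hF hf invC_E7 (by norm_num) (AutInv.inv_E7 _) ordF_E7 hb hb2
      (Or.inl ((Nat.coprime_primes hb Nat.prime_two).2 hb2)) (pow_orderOf_eq_one b) with ⟨s, hs⟩ | ⟨-, h3⟩
    · exact Or.inl ⟨s, hs⟩
    · refine Or.inr fun y hy => h3 y ?_
      rw [hy]
      refine ⟨H.prime, H.ne_p, (Nat.coprime_primes H.prime Nat.prime_two).2 (by omega), h,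
        fun m hm => (H.iff m).1 hm, ?_⟩
      simp only [List.forall_mem_cons, List.not_mem_nil]
      refine ⟨?_, ?_, ?_, ?_, ?_, ?_, ?_, fun x h => h.elim⟩ <;> omega
  refine row_four hZ G₀ G₁ G₂ G₃ (A₀.noOdd A₁ e01 e10 (neq H₀ H₁ (by norm_num)))
    (A₂.noOdd A₃ e23 e32 (neq H₂ H₃ (by norm_num))) (A₀.noOdd A₂ e02 e20 (neq H₀ H₂ (by norm_num)))
    (A₀.noOdd A₃ e03 e30 (neq H₀ H₃ (by norm_num))) (A₁.noOdd A₂ e12 e21 (neq H₁ H₂ (by norm_num)))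
    (A₀.inc hZ A₂ (dic H₀ (by norm_num)) fun t ht ht2 => co99 hq1 ht ht2)
    (A₀.inc hZ A₃ (dic H₀ (by norm_num)) fun t ht ht2 => co97 hq1 ht ht2)
    (A₁.inc hZ A₂ (dic H₁ (by norm_num)) fun t ht ht2 => co79 hq1 ht ht2) ?_
  intro t ht ht2 htS _ _ _ _
  by_cases h2 : t ∣ (p ^ f) ^ 2 - 1
  · right
    intro x y hx hy
    have h3 : v t ↥(centralizer ({x} : Set ↥(chevE7.group F))) ≤ ((p ^ f) ^ 9 + 1).factorization t :=
      (Nat.factorization_le_iff_dvd Nat.card_pos.ne' (by omega)).2 (A₀.card x hx) t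
    have hq2 : 1 < (p ^ f) ^ 9 := Nat.one_lt_pow (by norm_num) (Nat.one_lt_pow hf.ne' hp.one_lt)
    have h4 : v t ↥(centralizer ({y} : Set ↥(chevE7.group F))) ≤ ((p ^ f) ^ 9 - 1).factorization t :=
      (Nat.factorization_le_iff_dvd Nat.card_pos.ne' (by omega)).2 (A₂.card y hy) t
    have h5 : ((p ^ f) ^ 18 - 1).factorization t =
        ((p ^ f) ^ 9 + 1).factorization t + ((p ^ f) ^ 9 - 1).factorization t := by
      rw [e18 hq1, Nat.factorization_mul (by omega) (by omega), Finsupp.add_apply]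
    have h6 := fac_lt hp hf (d := 14) (by norm_num) ht (dvd14 hq1 h2)
    rw [fac_out hp hf hF ht ht2, fac_S hp hf hF ht ht2]
    omega
  · left
    refine ⟨out_lt hp hf hF ht ht2 htS, fun y hy => ⟨?_, ?_⟩⟩
    · by_contra hc
      push Not at hc
      have h3 := A₀.dvd_of hc.1
      have h4 := A₁.dvd_of hc.2
      rw [hy] at h3 h4
      exact h2 (two_of_add hq1 h3 h4)
    · by_contra hc
      push Not at hc
      have h3 := A₂.dvd_of hc.1
      have h4 := A₃.dvd_of hc.2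
      rw [hy] at h3 h4
      exact h2 (two_of_sub hq1 h3 h4)

end Cfsg.Agent.H446.PD.E7

namespace Cfsg.Agent.H446.PD

open Cfsg Cfsg.Lie

universe u

/-- **The row of `E₇(q)`.** -/
theorem row_e7 (K : Type u) [Group K] [Finite K] [hK : IsSimpleGroup K] (h : Lie.IsoE7 K) :
    Cfsg.Agent.H160.PD.Row K := by
  obtain ⟨F, _, _, ⟨e⟩⟩ := h
  have : IsSimpleGroup ↥(chevE7.group F) := (MulEquiv.isSimpleGroup_congr e).1 hK
  exact Cfsg.Agent.H160.PD.Row.congr e E7.row_group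

end Cfsg.Agent.H446.PD
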